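import Groth.Agent.SymNorm.Curve
import Mathlib.RingTheory.Algebraic.Integral
import Mathlib.LinearAlgebra.FreeModule.PID
import Mathlib.RingTheory.KrullDimension.Polynomial

/-! The sum of a section over the divisor of a function on a curve. -/

noncomputable section

set_option autoImplicit false
set_option linter.style.haveILetI false
set_option linter.unusedSectionVars false
set_option backward.isDefEq.respectTransparency false
set_option backward.isDefEq.respectTransparency.types false

universe v u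

open CategoryTheory CategoryTheory.Limits AlgebraicGeometry WithZero Opposite
open Groth.Agent.CurveCohLib.Polar Groth.Agent.LocSymLib Groth.Agent.ZetaLib
open HomogeneousLocalization (Away)

namespace Groth.Agent.SymNorm.Curve

variable {k : Type u} [Field k] [IsAlgClosed k] {X : Scheme.{u}} [IsIntegral X]
  (c : X ⟶ Spec (CommRingCat.of k)) [IsProper c] [Smooth c] (hdim : topologicalKrullDim X = 1)

local notation "𝒜" => CohB1.polyGrading 1 k
local notation "T" => (MvPolynomial.X : Fin (1 + 1) → MvPolynomial (Fin (1 + 1)) k)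

/-- The affine open where a transcendental function is regular, finite over the affine line. -/
theorem exists_chart {t : X.functionField} (ht : letI := cAlg c; Transcendental k t) :
    ∃ (V : X.Opens) (hV : IsAffineOpen V) (hη : genericPoint X ∈ V) (P : Polynomial k →+* Γ(X, V)),
      P.Finite ∧ hV.fromSpec ≫ c = Spec.map (CommRingCat.ofHom (P.comp Polynomial.C)) ∧
      (∀ r, gen hη (P (Polynomial.C r)) = LocSym.constFun c r) ∧
      gen hη (P Polynomial.X) = t ∧
      ∀ x : LocSym.Pt c, x.pt ∈ V ↔ vl c hdim x t ≤ 1 := by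
  classical
  letI : X.Over (Spec (CommRingCat.of k)) := ⟨c⟩
  haveI : IsProper (X ↘ Spec (CommRingCat.of k)) := ‹IsProper c›
  haveI : Smooth (X ↘ Spec (CommRingCat.of k)) := ‹Smooth c›
  letI : Algebra k X.functionField := ZetaCurve.ffAlg k X
  have hc0 : ∀ r, algebraMap k X.functionField r = LocSym.constFun c r := fun r => rfl
  have ht' : Transcendental k t := fun ⟨p, hp, h⟩ => ht ⟨p, hp, h⟩
  obtain ⟨φ, hφ, hgen⟩ := HyperP1.exists_map k hdim t
  obtain ⟨hfin, hφη, -, -⟩ := HyperP1.map_props k hdim ht' φ hφ hgen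
  haveI := hfin
  haveI := H23.PnChart.isIntegral_projSpace 1 k
  let U : (CohB1.ProjSpace 1 k).Opens := (chart 1 k 0).opensRange
  have hU : IsAffineOpen U := isAffineOpen_opensRange _
  let V := φ ⁻¹ᵁ U
  have hV : IsAffineOpen V := hU.preimage φ
  let E := IsOpenImmersion.isoOfRangeEq hU.fromSpec (chart 1 k 0) (by rw [hU.range_fromSpec]; rfl)
  have hE : E.hom ≫ chart 1 k 0 = hU.fromSpec := IsOpenImmersion.isoOfRangeEq_hom_fac _ _ _
  let ja : CommRingCat.of (Away 𝒜 (T 0)) ⟶ Γ(CohB1.ProjSpace 1 k, U) := Spec.preimage E.hom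
  haveI : IsIso ja := ⟨Spec.preimage E.inv,
    Spec.map_injective (by simp [ja]), Spec.map_injective (by simp [ja])⟩
  let hB : CommRingCat.of (Away 𝒜 (T 0)) ⟶ Γ(X, V) := ja ≫ φ.app U
  have hBfac : Spec.map hB ≫ chart 1 k 0 = hV.fromSpec ≫ φ := by
    rw [Spec.map_comp, Category.assoc, show Spec.map ja = E.hom from Spec.map_preimage _, hE,
      Scheme.Hom.app_eq_appLE, IsAffineOpen.SpecMap_appLE_fromSpec φ hU hV le_rfl]
  let P0 : Polynomial k →+* Away 𝒜 (T 0) := Polynomial.eval₂RingHom (base 1 k 0) (coord 1 k 0 1)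
  have hP0 : Function.Surjective P0 := by
    intro z
    obtain ⟨p, rfl⟩ := surjective_dehom 1 k 0 z
    induction p using MvPolynomial.induction_on with
    | C r => exact ⟨Polynomial.C r, by simp [P0, dehom]⟩
    | add p q hp hq =>
      obtain ⟨a, ha⟩ := hp; obtain ⟨b, hb⟩ := hq
      exact ⟨a + b, by rw [map_add, map_add, ha, hb]⟩
    | mul_X p l hp =>
      obtain ⟨a, ha⟩ := hp
      obtain rfl | rfl : l = 0 ∨ l = 1 := (by decide : ∀ l : Fin (1 + 1), l = 0 ∨ l = 1) l
      · exact ⟨a, by rw [map_mul, ha, dehom, MvPolynomial.eval₂Hom_X', H23.PnChart.coord_self, mul_one]⟩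
      · exact ⟨a * Polynomial.X, by rw [map_mul, map_mul, ha]; simp [P0, dehom]⟩
  let P : Polynomial k →+* Γ(X, V) := hB.hom.comp P0
  have hη : genericPoint X ∈ V := by
    show φ (genericPoint X) ∈ U
    rw [hφη]
    exact (genericPoint_spec _).mem_open_set_iff U.isOpen |>.2
      ⟨chart 1 k 0 (Spec.map (CommRingCat.ofHom (evalAt (k := k) (K := X.functionField) 0 ![1, t] rfl))
        (IsLocalRing.closedPoint _)), trivial, ⟨_, rfl⟩⟩
  have hgam : ∀ z, gen hη (hB.hom z) = evalAt (k := k) (K := X.functionField) 0 ![1, t] rfl z := by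
    have h : hB ≫ X.presheaf.germ V (genericPoint X) hη =
        CommRingCat.ofHom (evalAt (k := k) (K := X.functionField) 0 ![1, t] rfl) := by
      apply Spec.map_injective
      rw [← cancel_mono (chart 1 k 0), Spec.map_comp, Category.assoc, hBfac, ← Category.assoc]
      refine Eq.trans ?_ hgen
      congr 1
      rw [← IsAffineOpen.fromSpecStalk_eq_fromSpecStalk hV hη, IsAffineOpen.fromSpecStalk]
    exact fun z => congr($(h).hom z)
  have hP0C : ∀ r, P0 (Polynomial.C r) = base 1 k 0 r := fun r => by simp [P0]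
  have hPC : ∀ r, gen hη (P (Polynomial.C r)) = LocSym.constFun c r := fun r => by
    show gen hη (hB.hom (P0 _)) = _
    rw [hP0C, hgam, ← hc0]
    exact congr($(evalAt_base (k := k) (K := X.functionField) 0 ![1, t] rfl) r)
  have hPX : gen hη (P Polynomial.X) = t := by
    show gen hη (hB.hom (P0 _)) = _
    rw [hgam, show P0 Polynomial.X = coord 1 k 0 1 by simp [P0], evalAt_coord]
    rfl
  refine ⟨V, hV, hη, P, ?_, ?_, hPC, hPX, fun x => ⟨fun hx => ?_, fun hle => ?_⟩⟩
  · refine RingHom.Finite.comp ?_ (RingHom.Finite.of_surjective P0 hP0)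
    show (ja ≫ φ.app U).hom.Finite
    rw [CommRingCat.hom_comp]
    exact (IsFinite.finite_app φ U hU).comp
      (RingHom.Finite.of_surjective _ (ConcreteCategory.bijective_of_isIso ja).2)
  · have h1 : hV.fromSpec ≫ c = Spec.map hB ≫ chart 1 k 0 ≫ CohB1.ProjSpace.toSpec 1 k := by
      rw [reassoc_of% hBfac, hφ]
      rfl
    rw [h1, chart_toSpec, ← Spec.map_comp]
    congr 1
    ext r
    exact congrArg hB.hom (hP0C r).symm
  · rw [← hPX]
    exact (vl_germ c hdim x hx _).1
  · letI := isDVR c hdim x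
    haveI : IsProper (CohB1.ProjSpace.toSpec 1 k) := PnCoh.Chow.isProper_toSpec 1 k
    haveI : (CohB1.ProjSpace 1 k).IsSeparated :=
      ⟨by rw [← Limits.terminal.comp_from (CohB1.ProjSpace.toSpec 1 k)]; infer_instance⟩
    set al := algebraMap (X.presheaf.stalk x.pt) X.functionField
    have hal : Function.Injective al := IsFractionRing.injective _ _
    have hrange : ∀ z, evalAt (k := k) (K := X.functionField) 0 ![1, t] rfl z ∈ al.range := by
      intro z
      obtain ⟨p, rfl⟩ := hP0 z
      rw [← hgam]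
      show gen hη (P p) ∈ al.range
      induction p using Polynomial.induction_on with
      | C r =>
        rw [hPC]
        exact (vl_le_one_iff c hdim x _).1 (vl_const_le c hdim x r)
      | add p q hp hq => rw [map_add, map_add]; exact add_mem hp hq
      | monomial m r h =>
        rw [pow_succ, ← mul_assoc, map_mul, map_mul, hPX]
        exact mul_mem h ((vl_le_one_iff c hdim x t).1 hle)
    let a' : Away 𝒜 (T 0) →+* X.presheaf.stalk x.pt :=
      (RingEquiv.ofBijective al.rangeRestrict
        ⟨fun p q h => hal (congrArg Subtype.val h), al.rangeRestrict_surjective⟩).symm.toRingHom.comp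
        ((evalAt (k := k) (K := X.functionField) 0 ![1, t] rfl).codRestrict al.range hrange)
    have ha' : ∀ z, al (a' z) = evalAt (k := k) (K := X.functionField) 0 ![1, t] rfl z := fun z =>
      congrArg Subtype.val ((RingEquiv.ofBijective al.rangeRestrict
        ⟨fun p q h => hal (congrArg Subtype.val h), al.rangeRestrict_surjective⟩).apply_symm_apply _)
    haveI : IsDominant (Spec.map (CommRingCat.ofHom al)) := ⟨PrimeSpectrum.denseRange_comap_iff_ker_le_nilRadical _ |>.2
      ((RingHom.injective_iff_ker_eq_bot _).1 hal ▸ bot_le)⟩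
    have he : X.fromSpecStalk x.pt ≫ φ = Spec.map (CommRingCat.ofHom a') ≫ chart 1 k 0 := by
      refine ext_of_isDominant (Spec.map (CommRingCat.ofHom al)) ?_
      have h1 : Spec.map (CommRingCat.ofHom al) ≫ X.fromSpecStalk x.pt =
          X.fromSpecStalk (genericPoint X) :=
        Scheme.SpecMap_stalkSpecializes_fromSpecStalk (genericPoint_specializes x.pt)
      rw [reassoc_of% h1, hgen, pointAt, ← Category.assoc, ← Spec.map_comp]
      congr 2
      ext z
      exact (ha' z).symm
    show φ x.pt ∈ U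
    rw [← Scheme.fromSpecStalk_closedPoint (x := x.pt), ← Scheme.Hom.comp_apply, he,
      Scheme.Hom.comp_apply]
    exact ⟨_, rfl⟩

open Classical in
include hdim in
theorem finsum_ord_eq_zero
    (F : (Over (Spec (CommRingCat.of k)))ᵒᵖ ⥤ AddCommGrpCat.{v})
    (ha : Function.Surjective (F.map (Over.homMk
        (Spec.map (CommRingCat.ofHom (algebraMap k (Polynomial k))))
        (Category.comp_id _) :
        Over.mk (Spec.map (CommRingCat.ofHom (algebraMap k (Polynomial k)))) ⟶
          Over.mk (𝟙 (Spec (CommRingCat.of k)))).op))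
    (hb : ∀ (V : Over (Spec (CommRingCat.of k))) [IsIntegral V.left] [Smooth V.hom] [IsSeparated V.hom]
        [QuasiCompact V.hom], topologicalKrullDim V.left = 1 →
      ∀ (n : ℕ) (Y : Scheme.{u}) (q : SymProd.fibPow V.hom n ⟶ Y) (g : Y ⟶ Spec (CommRingCat.of k))
        (h : SymProd.IsSymProd V.hom n q g),
        Set.range (F.map (Over.homMk q h.over :
            Over.mk (WidePullback.base fun _ : Fin n => V.hom) ⟶ Over.mk g).op) =
          {ξ | ∀ σ : Equiv.Perm (Fin n),
            F.map (Over.homMk (SymProd.permHom V.hom n σ) (SymProd.permHom_base V.hom n σ) :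
              Over.mk (WidePullback.base fun _ : Fin n => V.hom) ⟶
                Over.mk (WidePullback.base fun _ : Fin n => V.hom)).op ξ = ξ})
    (S : Finset (LocSym.Pt c)) (U : X.Opens)
    (hU : (U : Set X) = (LocSym.Pt.pt '' (S : Set (LocSym.Pt c)))ᶜ)
    (f : X.functionField) (hf0 : f ≠ 0) (hf1 : ∀ x ∈ S, LocSym.HasValueAt x f (1 : k))
    (pt : ∀ x : LocSym.Pt c, x ∉ S → (Over.mk (𝟙 (Spec (CommRingCat.of k))) ⟶ Over.mk (U.ι ≫ c)))
    (hpt : ∀ (x : LocSym.Pt c) (hx : x ∉ S), (pt x hx).left ≫ U.ι = x.1)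
    (ξ : F.obj (op (Over.mk (U.ι ≫ c)))) :
    ∑ᶠ x : LocSym.Pt c,
      (if hx : x ∈ S then (0 : F.obj (op (Over.mk (𝟙 (Spec (CommRingCat.of k))))))
        else (x.ord f) • F.map (pt x hx).op ξ) = 0 := by
  by_cases hfc : ∃ r, f = LocSym.constFun c r
  · obtain ⟨r, rfl⟩ := hfc
    refine finsum_eq_zero_of_forall_eq_zero fun x => ?_
    split
    · rfl
    · rw [ord_const c hdim, zero_smul]
  letI := cAlg c
  have hf1' : f - 1 ≠ 0 := fun h => hfc ⟨1, by rw [map_one]; exact sub_eq_zero.1 h⟩
  set t := f / (f - 1) with htdef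
  have ht1 : t - 1 = 1 / (f - 1) := by rw [htdef, div_sub_one hf1']; ring
  have htr : Transcendental k t := by
    intro hal
    have hmem : t ∈ (algebraMap k X.functionField).range :=
      minpoly.mem_range_of_degree_eq_one k t
        (IsAlgClosed.degree_eq_one_of_irreducible k (minpoly.irreducible hal.isIntegral))
    obtain ⟨r, hr⟩ := hmem
    have hr1 : r ≠ 1 := fun h => by
      rw [h, map_one] at hr
      rw [← hr, sub_self] at ht1
      exact one_div_ne_zero hf1' ht1.symm
    refine hfc ⟨r / (r - 1), ?_⟩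
    have : t - 1 ≠ 0 := by rw [ht1]; exact one_div_ne_zero hf1'
    rw [map_div₀, map_sub, map_one, show LocSym.constFun c r = t from hr, eq_div_iff this, htdef]
    field_simp
    ring
  obtain ⟨V, hV, hη, P, hPfin, hPc, hPC, hPX, hVmem⟩ := exists_chart c hdim htr
  haveI : Nonempty V := ⟨⟨_, hη⟩⟩
  let B := Γ(X, V)
  letI algk : Algebra k B := (P.comp Polynomial.C).toAlgebra
  letI algP : Algebra (Polynomial k) B := P.toAlgebra
  haveI : IsScalarTower k (Polynomial k) B := IsScalarTower.of_algebraMap_eq' rfl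
  haveI : Module.Finite (Polynomial k) B := hPfin
  haveI : IsDomain B := inferInstanceAs (IsDomain Γ(X, V))
  have hPinj : Function.Injective P := by
    have h : (gen hη).comp P = (Polynomial.aeval t : Polynomial k →ₐ[k] X.functionField).toRingHom := by
      refine Polynomial.ringHom_ext (fun r => ?_) ?_
      · simp only [RingHom.comp_apply, hPC, AlgHom.toRingHom_eq_coe, RingHom.coe_coe, Polynomial.aeval_C]
        rfl
      · simp [hPX]
    intro p q hpq
    exact transcendental_iff_injective.1 htr (by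
      have := congrArg (gen hη) hpq
      rwa [← RingHom.comp_apply, ← RingHom.comp_apply, h] at this)
  haveI : FaithfulSMul (Polynomial k) B := (faithfulSMul_iff_algebraMap_injective _ _).2 hPinj
  haveI : Module.IsTorsionFree (Polynomial k) B := inferInstance
  obtain ⟨n, ⟨e⟩⟩ : ∃ n, Nonempty (Module.Basis (Fin n) (Polynomial k) B) :=
    ⟨_, ⟨Module.finBasis (Polynomial k) B⟩⟩
  let D := pointData c hdim hV hPc hη hPC
  have hvS : ∀ x ∈ S, x.pt ∉ V := by
    intro x hx hxV
    have hle := (hVmem x).1 hxV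
    have hlt := (hasValueAt_iff c hdim x f 1).1 (hf1 x hx)
    rw [map_one] at hlt
    have hvf : vl c hdim x f = 1 := by
      have := Valuation.map_add_eq_of_lt_left (vl c hdim x) (x := 1) (y := f - 1) (by rwa [map_one])
      rwa [add_sub_cancel, map_one] at this
    rw [htdef, map_div₀, hvf, div_le_iff₀ (pos_iff_ne_zero.2 ((vl c hdim x).ne_zero_iff.2 hf1')),
      one_mul] at hle
    exact not_lt.2 hle hlt
  have hVU : V ≤ U := by
    intro z hz
    show z ∈ (U : Set X)
    rw [hU]
    rintro ⟨x, hx, rfl⟩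
    exact hvS x hx hz
  -- the orders
  have hord : ∀ x : LocSym.Pt c,
      (x.pt ∈ V → 0 ≤ x.ord t ∧ 0 ≤ x.ord (t - 1) ∧ x.ord f = x.ord t - x.ord (t - 1)) ∧
        (x.pt ∉ V → x.ord f = 0) := by
    intro x
    have ht0 : t ≠ 0 := div_ne_zero hf0 hf1'
    have ht10 : t - 1 ≠ 0 := by rw [ht1]; exact one_div_ne_zero hf1'
    have e1 : x.ord (t - 1) = - x.ord (f - 1) := by rw [ht1, one_div, ord_inv c hdim]
    have e2 : x.ord t = x.ord f - x.ord (f - 1) := ord_div c hdim x hf0 hf1'
    refine ⟨fun hx => ⟨?_, ?_, by omega⟩, fun hx => ?_⟩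
    · simpa using (vl_le_exp_iff c hdim x ht0 0).1 (by simpa using (hVmem x).1 hx)
    · have h0 : vl c hdim x (t - 1) ≤ exp 0 := by
        rw [exp_zero]
        exact (vl c hdim x).map_sub_le ((hVmem x).1 hx) (le_of_eq (map_one _))
      simpa using (vl_le_exp_iff c hdim x ht10 0).1 h0
    · by_contra hne
      apply hx
      rw [hVmem]
      have hd : vl c hdim x f ≠ 1 := fun h => hne (by rw [ord_eq c hdim, h, log_one, neg_zero])
      rw [htdef, map_div₀, div_le_iff₀ (pos_iff_ne_zero.2 ((vl c hdim x).ne_zero_iff.2 hf1')), one_mul]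
      rcases lt_or_gt_of_ne hd with hlt | hgt
      · refine hlt.le.trans (le_of_eq ?_)
        rw [sub_eq_add_neg, Valuation.map_add_eq_of_lt_right _ (by rwa [Valuation.map_neg, map_one]),
          Valuation.map_neg, map_one]
      · refine le_of_eq ?_
        rw [sub_eq_add_neg, Valuation.map_add_eq_of_lt_left _ (by rwa [Valuation.map_neg, map_one])]
  -- supports
  let Zs : Finset (LocSym.Pt c) := ((finite_support c hdim t).toFinset ∪
    (finite_support c hdim (t - 1)).toFinset).filter fun x => x.pt ∈ V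
  let Z : Finset D.P := (Zs.subtype (fun x : LocSym.Pt c => x.pt ∈ V) : Finset {x : LocSym.Pt c // x.pt ∈ V})
  have hZ : ∀ p : D.P, p ∉ Z → p.1.ord t = 0 ∧ p.1.ord (t - 1) = 0 := by
    intro p hp
    refine ⟨by_contra fun h => hp ?_, by_contra fun h => hp ?_⟩
    · exact Finset.mem_subtype.2 (Finset.mem_filter.2 ⟨Finset.mem_union_left _
        ((Set.Finite.mem_toFinset _).2 h), p.2⟩)
    · exact Finset.mem_subtype.2 (Finset.mem_filter.2 ⟨Finset.mem_union_right _
        ((Set.Finite.mem_toFinset _).2 h), p.2⟩)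
  let N : k → D.P → ℕ := fun a p => (p.1.ord (t - LocSym.constFun c a)).toNat
  have hτ : ∀ a : k, D.γ (algebraMap (Polynomial k) B (Polynomial.X - Polynomial.C a)) =
      t - LocSym.constFun c a := fun a => by
    show gen hη (P (Polynomial.X - Polynomial.C a)) = _
    rw [map_sub, map_sub, hPX, hPC]
  have hne : ∀ a : k, t - LocSym.constFun c a ≠ 0 := fun a h => htr (by
    rw [sub_eq_zero.1 h]; exact isAlgebraic_algebraMap a)
  have hN : ∀ (a : k) (p : D.P), D.v p (D.γ (algebraMap (Polynomial k) B (Polynomial.X - Polynomial.C a))) =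
      exp (-(N a p : ℤ)) := by
    intro a p
    rw [hτ]
    show vl c hdim p.1 _ = _
    have hle : vl c hdim p.1 (t - LocSym.constFun c a) ≤ 1 :=
      (vl c hdim p.1).map_sub_le ((hVmem p.1).1 p.2) (vl_const_le c hdim p.1 a)
    have h0 : 0 ≤ p.1.ord (t - LocSym.constFun c a) := by
      simpa using (vl_le_exp_iff c hdim p.1 (hne a) 0).1 (by simpa using hle)
    rw [Int.toNat_of_nonneg h0, ord_eq c hdim, neg_neg, exp_log ((vl c hdim p.1).ne_zero_iff.2 (hne a))]
  obtain ⟨L, g, hL, hg, htri⟩ := exists_triangular D e (0 : k) (N 0) Z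
    (fun p hp => by simp [N, (hZ p hp).1]) (hN 0) (by rw [hτ]; exact hne 0)
  obtain ⟨L', g', hL', hg', htri'⟩ := exists_triangular D e (1 : k) (N 1) Z
    (fun p hp => by simp [N, (hZ p hp).2]) (hN 1) (by rw [hτ]; exact hne 1)
  let sB := Spec.map (CommRingCat.ofHom (algebraMap k B))
  have hsB : hV.fromSpec ≫ c = sB := hPc
  haveI : Smooth sB := hsB ▸ inferInstance
  haveI : IsSeparated (Over.mk sB).hom := inferInstanceAs (IsSeparated (Spec.map _))
  haveI : QuasiCompact (Over.mk sB).hom := inferInstanceAs (QuasiCompact (Spec.map _))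
  haveI : Smooth (Over.mk sB).hom := ‹Smooth sB›
  haveI : IsIntegral (Over.mk sB).left := inferInstanceAs (IsIntegral (Spec (CommRingCat.of B)))
  have hdV : topologicalKrullDim (Over.mk sB).left = 1 := by
    show topologicalKrullDim (PrimeSpectrum B) = 1
    rw [PrimeSpectrum.topologicalKrullDim_eq_ringKrullDim,
      VarDim.ringKrullDim_eq_of_isIntegral (R := Polynomial k) (S := B),
      Polynomial.ringKrullDim_of_isNoetherianRing, ringKrullDim_eq_zero_of_field, zero_add]
  let j : Over.mk sB ⟶ Over.mk (U.ι ≫ c) := Over.homMk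
    (IsOpenImmersion.lift U.ι hV.fromSpec (by
      rintro _ ⟨z, rfl⟩
      exact ⟨⟨_, hVU (hV.range_fromSpec.le ⟨z, rfl⟩)⟩, rfl⟩))
    (by
      show _ ≫ U.ι ≫ c = sB
      rw [IsOpenImmersion.lift_fac_assoc, hsB])
  let φ : D.P → F.obj (op (Over.mk (𝟙 (Spec (CommRingCat.of k))))) := fun p =>
    F.map (charPt (D.χ p)).op (F.map j.op ξ)
  have hφ : ∀ (p : D.P) (hp : p.1 ∉ S), φ p = F.map (pt p.1 hp).op ξ := by
    intro p hp
    show F.map _ (F.map j.op ξ) = _
    rw [← ConcreteCategory.comp_apply, ← F.map_comp, ← op_comp]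
    refine congrArg (fun m => F.map (Quiver.Hom.op m) ξ) ?_
    ext1
    rw [← cancel_mono U.ι, hpt p.1 hp]
    show (Spec.map _ ≫ IsOpenImmersion.lift U.ι hV.fromSpec _) ≫ U.ι = p.1.1
    rw [Category.assoc, IsOpenImmersion.lift_fac]
    exact charOf_fac c hV hPc p.1 p.2
  have key := sum_eq F ha (fun Y q g h => hb (Over.mk sB) hdV n Y q g h) e 0 1
    (fun i => D.χ (L i)) (fun i => D.χ (L' i)) g g' hg hg' htri htri' (F.map j.op ξ)
  rw [hL φ, hL' φ] at key
  rw [finsum_eq_sum_of_support_subset _ (s := Zs) ?_]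
  · rw [← Finset.sum_subtype_of_mem (p := fun x : LocSym.Pt c => x.pt ∈ V) _
      (fun x hx => (Finset.mem_filter.1 hx).2)]
    show ∑ p ∈ Z, (if hx : p.1 ∈ S then 0 else p.1.ord f • F.map (pt p.1 hx).op ξ) = 0
    calc _ = ∑ p ∈ Z, ((N 0 p : ℤ) • φ p - (N 1 p : ℤ) • φ p) := Finset.sum_congr rfl fun p _ => by
          have hp : p.1 ∉ S := fun h => hvS _ h p.2
          obtain ⟨h1, h2, h3⟩ := (hord p.1).1 p.2
          rw [dif_neg hp, hφ p hp, ← sub_smul, h3]
          simp only [N, map_zero, map_one, sub_zero]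
          rw [Int.toNat_of_nonneg h1, Int.toNat_of_nonneg h2]
      _ = 0 := by
          rw [Finset.sum_sub_distrib, sub_eq_zero]
          simpa only [natCast_zsmul] using key
  · intro x hx
    simp only [Function.mem_support, ne_eq] at hx
    have hxS : x ∉ S := fun h => hx (dif_pos h)
    rw [dif_neg hxS] at hx
    have hf : x.ord f ≠ 0 := fun h => hx (by rw [h, zero_smul])
    have hxV : x.pt ∈ V := by_contra fun h => hf ((hord x).2 h)
    obtain ⟨h1, h2, h3⟩ := (hord x).1 hxV
    simp only [Zs, Finset.coe_filter, Set.mem_setOf_eq, Finset.mem_union, Set.Finite.mem_toFinset,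
      Function.mem_support]
    exact ⟨by omega, hxV⟩

end Groth.Agent.SymNorm.Curve
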