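import Groth.Prelude.Def_SymTen
import Mathlib.LinearAlgebra.Determinant
import Mathlib.LinearAlgebra.Matrix.Block
import Mathlib.LinearAlgebra.PiTensorProduct.Basis
import Mathlib.RingTheory.PiTensorProduct

/-! The norm from symmetric tensors of a finite free algebra to the base. -/

set_option autoImplicit false
universe u

open scoped TensorProduct
open Module

namespace Groth.Agent.SymNorm

noncomputable section

variable (k : Type u) {A B : Type u} [Field k] [CommRing A] [CommRing B] [Algebra k A] [Algebra k B]
  [Algebra A B] [IsScalarTower k A B] {n : ℕ} (e : Basis (Fin n) A B)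

/-- `b ↦ det (bᵢ wᵢ)` on the tensor power over `k`. -/
def phi (w : Fin n → B) : (⨂[k] _ : Fin n, B) →ₗ[k] A :=
  PiTensorProduct.lift
    ((e.det.toMultilinearMap.restrictScalars k).compLinearMap fun i => LinearMap.mulRight k (w i))

@[simp] theorem phi_tprod (w b : Fin n → B) :
    phi k e w (PiTensorProduct.tprod k b) = e.det (fun i => b i * w i) := by
  simp [phi]

theorem phi_update_add (w : Fin n → B) (i : Fin n) (x y : B) :
    phi k e (Function.update w i (x + y)) =
      phi k e (Function.update w i x) + phi k e (Function.update w i y) := by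
  refine PiTensorProduct.ext (MultilinearMap.ext fun b => ?_)
  have h : ∀ z, (fun j => b j * Function.update w i z j) =
      Function.update (fun j => b j * w j) i (b i * z) := fun z => by
    funext j; rcases eq_or_ne j i with rfl | hj <;> simp [*]
  simp only [LinearMap.compMultilinearMap_apply, LinearMap.add_apply, phi_tprod, h, mul_add]
  exact e.det.map_update_add _ i _ _

theorem phi_update_smul (w : Fin n → B) (i : Fin n) (a : A) (x : B)
    (s : ⨂[k] _ : Fin n, B) :
    phi k e (Function.update w i (a • x)) s = a • phi k e (Function.update w i x) s := by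
  induction s using PiTensorProduct.induction_on with
  | smul_tprod r b =>
    have h : ∀ z, (fun j => b j * Function.update w i z j) =
        Function.update (fun j => b j * w j) i (b i * z) := fun z => by
      funext j; rcases eq_or_ne j i with rfl | hj <;> simp [*]
    simp only [map_smul, phi_tprod, h, mul_smul_comm]
    rw [e.det.map_update_smul, smul_comm]
  | add s t hs ht => simp only [map_add, hs, ht, smul_add]

theorem phi_swap {w : Fin n → B} {i j : Fin n} (hij : i ≠ j) (hw : w i = w j)
    (b : Fin n → B) :
    phi k e w (PiTensorProduct.tprod k (b ∘ Equiv.swap i j)) =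
      - phi k e w (PiTensorProduct.tprod k b) := by
  rw [phi_tprod, phi_tprod, ← e.det.map_swap (fun l => b l * w l) hij]
  congr 1
  funext l
  simp only [Function.comp_apply]
  congr 1
  rcases eq_or_ne l i with rfl | hi
  · rw [Equiv.swap_apply_left, hw]
  rcases eq_or_ne l j with rfl | hj
  · rw [Equiv.swap_apply_right, hw]
  rw [Equiv.swap_apply_of_ne_of_ne hi hj]

/-- On invariant tensors, `phi` vanishes when two of the arguments agree. -/
theorem phi_eq_zero {w : Fin n → B} {i j : Fin n} (hij : i ≠ j) (hw : w i = w j)
    {s : ⨂[k] _ : Fin n, B} (hs : s ∈ SymTen.TS k B n) : phi k e w s = 0 := by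
  classical
  let c := Module.Free.chooseBasis k B
  let E := Basis.piTensorProduct (fun _ : Fin n => c)
  let σ := Equiv.swap i j
  have hE : ∀ p, PiTensorProduct.reindex k (fun _ : Fin n => B) σ (E p) = E (p ∘ σ) := fun p => by
    simp only [E, Basis.piTensorProduct_apply, PiTensorProduct.reindex_tprod]
    congr 1
  have hr : ∀ p, E.repr s (p ∘ σ) = E.repr s p := by
    have h2 : ∀ t, ∀ p, E.repr (PiTensorProduct.reindex k (fun _ : Fin n => B) σ t) (p ∘ σ) =
        E.repr t p := by
      intro t p
      have h3 : (Finsupp.lapply (p ∘ σ)).comp (E.repr.toLinearMap.comp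
          (PiTensorProduct.reindex k (fun _ : Fin n => B) σ).toLinearMap) =
          (Finsupp.lapply p).comp E.repr.toLinearMap := E.ext fun q => by
        simp only [LinearMap.comp_apply, LinearEquiv.coe_coe, Finsupp.lapply_apply, hE, Basis.repr_self,
          Finsupp.single_apply]
        exact if_congr ⟨fun h => by funext l; simpa [σ] using congrFun h (σ l),
          fun h => by rw [h]⟩ rfl rfl
      exact LinearMap.congr_fun h3 t
    intro p
    conv_lhs => rw [← hs σ]
    exact h2 s p
  rw [← E.linearCombination_repr s, Finsupp.linearCombination_apply, map_finsuppSum, Finsupp.sum]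
  refine Finset.sum_involution (fun p _ => p ∘ σ) (fun p hp => ?_) (fun p hp h0 he => h0 ?_)
    (fun p hp => ?_) (fun p _ => ?_)
  · rw [hr, map_smul, map_smul, show E (p ∘ σ) = PiTensorProduct.tprod k ((fun l => c (p l)) ∘ σ) by
      simp only [E, Basis.piTensorProduct_apply]; rfl, phi_swap k e hij hw,
      show E p = PiTensorProduct.tprod k (fun l => c (p l)) by simp only [E, Basis.piTensorProduct_apply],
      smul_neg, add_neg_cancel]
  · rw [map_smul, show E p = PiTensorProduct.tprod k (fun l => c (p l)) by
      simp only [E, Basis.piTensorProduct_apply], phi_tprod, e.det.map_eq_zero_of_eq _ ?_ hij, smul_zero]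
    have hpij : p j = p i := by
      have := congrFun he i
      simpa [σ] using this
    simp only [hpij, hw]
  · rw [Finsupp.mem_support_iff] at hp ⊢; rwa [hr]
  · funext l; simp [σ]

/-- On invariant tensors `phi` is alternating. -/
def phiAlt (s : SymTen.TS k B n) : B [⋀^Fin n]→ₗ[A] A where
  toFun w := phi k e w s
  map_update_add' {hd} w i x y := by
    obtain rfl : hd = instDecidableEqFin n := Subsingleton.elim _ _
    rw [phi_update_add]; rfl
  map_update_smul' {hd} w i a x := by
    obtain rfl : hd = instDecidableEqFin n := Subsingleton.elim _ _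
    exact phi_update_smul k e w i a x s.1
  map_eq_zero_of_eq' w i j hw hij := phi_eq_zero k e hij hw s.2

theorem phi_eq (s : SymTen.TS k B n) (w : Fin n → B) :
    phi k e w s = e.det w * phi k e e s := by
  have h := congr($((phiAlt k e s).eq_smul_basis_det e) w)
  rw [mul_comm]
  exact h

theorem phi_mul (s : SymTen.TS k B n) (w : Fin n → B) (t : ⨂[k] _ : Fin n, B) :
    phi k e w (s.1 * t) = phi k e e s * phi k e w t := by
  induction t using PiTensorProduct.induction_on with
  | smul_tprod r b =>
    rw [mul_smul_comm, map_smul, map_smul, mul_smul_comm, phi_tprod]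
    congr 1
    have h : ∀ u : ⨂[k] _ : Fin n, B, phi k e w (u * PiTensorProduct.tprod k b) =
        phi k e (fun i => b i * w i) u := fun u => by
      induction u using PiTensorProduct.induction_on with
      | smul_tprod r a =>
        rw [smul_mul_assoc, map_smul, map_smul, PiTensorProduct.tprod_mul_tprod, phi_tprod, phi_tprod]
        simp only [Pi.mul_apply, mul_assoc]
      | add x y hx hy => rw [add_mul, map_add, map_add, hx, hy]
    rw [h, phi_eq, mul_comm]
  | add x y hx hy => rw [mul_add, map_add, map_add, hx, hy, mul_add]

/-- The norm from symmetric tensors to the base. -/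
def norm : SymTen.TS k B n →ₐ[k] A :=
  AlgHom.ofLinearMap ((phi k e e).comp (SymTen.TS k B n).val.toLinearMap)
    (by
      show phi k e e (1 : ⨂[k] _ : Fin n, B) = 1
      rw [PiTensorProduct.one_def, phi_tprod]
      simp only [Pi.one_apply, one_mul]
      exact e.det_self)
    (fun s t => phi_mul k e s e t.1)

variable (ψ : A →ₐ[k] k) (χ : Fin n → (B →ₐ[k] k)) (g : Fin n → B)

/-- The fibre coordinates of an element. -/
def pr (x : B) : Fin n → k := fun l => ψ (e.repr x l)

/-- Evaluation at an `n`-tuple of characters. -/
def evT : (⨂[k] _ : Fin n, B) →ₐ[k] k :=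
  PiTensorProduct.liftAlgHom
    ((MultilinearMap.mkPiAlgebra k (Fin n) k).compLinearMap fun i => (χ i).toLinearMap)
    (by simp) (fun x y => by simp [Finset.prod_mul_distrib])

@[simp] theorem evT_tprod (b : Fin n → B) : evT k χ (PiTensorProduct.tprod k b) = ∏ i, χ i (b i) := by
  simp [evT]

/-- The value of the norm at a point whose fibre carries a triangular basis with diagonal `χ`. -/
theorem psi_norm (hg : ψ (e.det g) ≠ 0)
    (htri : ∀ i b, ∃ a : Fin n → k, (∀ j, j ≤ i → a j = 0) ∧
      pr k e ψ (b * g i) = χ i b • pr k e ψ (g i) + ∑ j, a j • pr k e ψ (g j))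
    (s : SymTen.TS k B n) : ψ (norm k e s) = evT k χ s.1 := by
  have key : ∀ t, ψ (phi k e g t) = evT k χ t * ψ (e.det g) := by
    intro t
    induction t using PiTensorProduct.induction_on with
    | smul_tprod r b =>
      simp only [map_smul, phi_tprod, evT_tprod, smul_eq_mul]
      rw [mul_assoc]
      congr 1
      choose a ha0 ha using fun i => htri i (b i)
      let L : Matrix (Fin n) (Fin n) k := fun i j => if i = j then χ i (b i) else a i j
      have hL : L.IsUpperTriangular := fun i j hij => by
        have hij' : j < i := hij
        simp [L, hij'.ne', ha0 i j hij'.le]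
      have hdet : ∀ w : Fin n → B,
          ψ (e.det w) = (Matrix.of fun i => pr k e ψ (w i)).det := fun w => by
        rw [Basis.det_apply, AlgHom.map_det, ← Matrix.det_transpose]
        rfl
      rw [hdet, hdet, show (∏ i, χ i (b i)) = L.det by
        rw [Matrix.det_of_isUpperTriangular hL]; simp [L], ← Matrix.det_mul]
      congr 1
      ext i l
      show pr k e ψ (b i * g i) l = ∑ j, L i j * pr k e ψ (g j) l
      rw [ha]
      simp only [Pi.add_apply, Pi.smul_apply, Finset.sum_apply, smul_eq_mul]
      rw [← Fintype.sum_ite_eq i (fun j => χ i (b i) * pr k e ψ (g j) l), ← Finset.sum_add_distrib]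
      refine Finset.sum_congr rfl fun j _ => ?_
      rcases eq_or_ne i j with rfl | hij
      · simp [L, ha0 i i le_rfl]
      · simp [L, hij]
    | add x y hx hy => simp only [map_add, hx, hy, add_mul]
  have h := key s.1
  rw [phi_eq, map_mul, mul_comm] at h
  exact mul_right_cancel₀ hg h

end

end Groth.Agent.SymNorm
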