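import Groth.Agent.SymNorm.Alg
import Mathlib.RingTheory.Valuation.Basic
import Mathlib.LinearAlgebra.Matrix.ToLin
import Mathlib.Algebra.GroupWithZero.WithZero

/-! Triangular bases of the fibres of a finite free algebra whose points are discrete valuations. -/

set_option autoImplicit false
universe u w z

open scoped TensorProduct WithZero
open Module WithZero

namespace Groth.Agent.SymNorm

noncomputable section

/-- Points of `B` as valuations of an overfield. -/
structure PointData (k B : Type u) (K : Type w) [Field k] [CommRing B] [Algebra k B] [Field K] where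
  γ : B →+* K
  inj : Function.Injective γ
  P : Type u
  v : P → Valuation K (WithZero (Multiplicative ℤ))
  χ : P → (B →ₐ[k] k)
  le_one : ∀ p b, v p (γ b) ≤ 1
  lt_one_iff : ∀ p b, v p (γ b) < 1 ↔ χ p b = 0
  value : ∀ p q, v p q ≤ 1 → ∃ r : k, v p (q - γ (algebraMap k B r)) < 1
  mem : ∀ q, (∀ p, v p q ≤ 1) → ∃ b, γ b = q
  unif : ∀ p, ∃ b, v p (γ b) = exp (-1)
  ext : ∀ p q, χ p = χ q → p = q

variable {k B : Type u} {K : Type w} [Field k] [CommRing B] [Algebra k B] [Field K]
  (D : PointData k B K)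

theorem lt_exp_imp {x : WithZero (Multiplicative ℤ)} {m : ℤ} (h : x < exp m) : x ≤ exp (m - 1) := by
  induction x using WithZero.recZeroCoe with
  | zero => exact zero_le'
  | coe z =>
    obtain ⟨z, rfl⟩ := Multiplicative.ofAdd.surjective z
    change exp z < exp m at h
    show exp z ≤ exp (m - 1)
    rw [exp_lt_exp] at h
    rw [exp_le_exp]
    omega

theorem PointData.eq_one {p : D.P} {b : B} (h : D.χ p b ≠ 0) : D.v p (D.γ b) = 1 :=
  le_antisymm (D.le_one p b) (not_lt.1 fun hl => h ((D.lt_one_iff p b).1 hl))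

theorem PointData.exists_sep {p q : D.P} (h : q ≠ p) : ∃ s, D.χ p s = 1 ∧ D.χ q s = 0 := by
  obtain ⟨b, hb⟩ : ∃ b, D.χ q b ≠ D.χ p b := not_forall.1 fun hh => h (D.ext q p (AlgHom.ext hh))
  refine ⟨(D.χ p b - D.χ q b)⁻¹ • (b - algebraMap k B (D.χ q b)), ?_, ?_⟩
  · simp [sub_ne_zero.2 (Ne.symm hb)]
  · simp

theorem PointData.exists_unif (Z : Finset D.P) (p : D.P) :
    ∃ π, D.v p (D.γ π) = exp (-1) ∧ ∀ q ∈ Z, q ≠ p → D.v q (D.γ π) = 1 := by
  classical
  obtain ⟨b, hb⟩ := D.unif p
  choose s hs1 hs0 using fun q : {q : D.P // q ≠ p} => D.exists_sep q.2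
  let e := ∏ q ∈ Z.subtype (fun q => q ≠ p), s q
  have he1 : D.χ p e = 1 := by simp [e, map_prod, hs1]
  have he0 : ∀ q ∈ Z, q ≠ p → D.χ q e = 0 := fun q hq hne => by
    rw [map_prod]
    exact Finset.prod_eq_zero (i := ⟨q, hne⟩) (Finset.mem_subtype.2 hq) (hs0 ⟨q, hne⟩)
  let f := (1 - e) ^ 2
  have hf : D.v p (D.γ f) < exp (-1) := by
    have h1 : D.v p (D.γ (1 - e)) ≤ exp (-1) := by
      have h : D.v p (D.γ (1 - e)) < exp 0 := by
        rw [exp_zero, D.lt_one_iff, map_sub, map_one, he1, sub_self]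
      simpa using lt_exp_imp h
    rw [map_pow, map_pow]
    calc D.v p (D.γ (1 - e)) ^ 2 ≤ exp (-1) ^ 2 := pow_le_pow_left₀ zero_le' h1 2
      _ < exp (-1) := by rw [pow_two, ← exp_add, exp_lt_exp]; omega
  refine ⟨b * (1 - f) + f, ?_, fun q hq hne => D.eq_one ?_⟩
  · have hm : D.v p (D.γ (b * (1 - f))) = exp (-1) := by
      rw [map_mul, map_mul, hb, D.eq_one (p := p) (b := 1 - f), mul_one]
      simp [f, he1]
    rw [map_add, Valuation.map_add_eq_of_lt_left _ (hm.symm ▸ hf), hm]
  · simp [f, he0 q hq hne]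

variable [Algebra (Polynomial k) B] [IsScalarTower k (Polynomial k) B] {n : ℕ}
  (e : Basis (Fin n) (Polynomial k) B) (a : k)

local notation "τ" => algebraMap (Polynomial k) B (Polynomial.X - Polynomial.C a)
local notation "π'" => pr k e (Polynomial.aeval a : Polynomial k →ₐ[k] k)

theorem pr_add (x y : B) : π' (x + y) = π' x + π' y := by
  funext l; simp [pr]

theorem pr_smul (r : k) (x : B) : π' (r • x) = r • π' x := by
  funext l
  simp only [pr, Pi.smul_apply]
  rw [← algebraMap_smul (Polynomial k) r x, map_smul, Finsupp.smul_apply, smul_eq_mul, map_mul,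
    AlgHom.commutes]
  rfl

/-- The fibre coordinates as a linear map. -/
def prL : B →ₗ[k] (Fin n → k) where
  toFun := π'
  map_add' := pr_add e a
  map_smul' := pr_smul e a

theorem pr_surjective : Function.Surjective (prL e a) := fun x => by
  refine ⟨∑ l, Polynomial.C (x l) • e l, funext fun m => ?_⟩
  show pr k e (Polynomial.aeval a : Polynomial k →ₐ[k] k) (∑ l, Polynomial.C (x l) • e l) m = x m
  simp only [pr, map_sum, map_smul, Basis.repr_self, Finsupp.finsetSum_apply, Finsupp.smul_apply,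
    Finsupp.single_apply, smul_eq_mul, mul_ite, mul_one, mul_zero]
  simp [apply_ite]

theorem pr_eq_zero_iff (x : B) : prL e a x = 0 ↔ τ ∣ x := by
  constructor
  · intro h
    have hl : ∀ l, (Polynomial.X - Polynomial.C a) ∣ e.repr x l := fun l =>
      Polynomial.dvd_iff_isRoot.2 (by
        have := congrFun h l
        simpa [prL, pr, Polynomial.aeval_def] using this)
    choose q hq using hl
    refine ⟨∑ l, q l • e l, ?_⟩
    conv_lhs => rw [← e.sum_repr x]
    simp only [hq, Finset.mul_sum, Algebra.smul_def, map_mul, mul_assoc]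
  · rintro ⟨y, rfl⟩
    funext l
    show pr k e (Polynomial.aeval a : Polynomial k →ₐ[k] k) (τ * y) l = 0
    rw [← Algebra.smul_def]
    simp only [pr, map_smul, Finsupp.smul_apply, smul_eq_mul, map_mul]
    simp

/-- Triangular bases of a fibre, with diagonal the zeros of `X - a` with multiplicity. -/
theorem exists_triangular [Nontrivial B] (N : D.P → ℕ) (Z : Finset D.P) (hZ : ∀ p, p ∉ Z → N p = 0)
    (hN : ∀ p, D.v p (D.γ τ) = exp (-(N p : ℤ))) (hτ : D.γ τ ≠ 0) :
    ∃ (L : Fin n → D.P) (g : Fin n → B),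
      (∀ {M : Type z} [AddCommGroup M] (φ : D.P → M), ∑ i, φ (L i) = ∑ p ∈ Z, N p • φ p) ∧
      (Polynomial.aeval a : Polynomial k →ₐ[k] k) (e.det g) ≠ 0 ∧
      (∀ i x, ∃ r : Fin n → k, (∀ j, j ≤ i → r j = 0) ∧
        π' (x * g i) = D.χ (L i) x • π' (g i) + ∑ j, r j • π' (g j)) := by
  classical
  let T := (p : {p // p ∈ Z}) × Fin (N p.1)
  let m := Fintype.card T
  let L : Fin m → D.P := fun i => ((Fintype.equivFin T).symm i).1.1
  have hLZ : ∀ i, L i ∈ Z := fun i => ((Fintype.equivFin T).symm i).1.2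
  have hsum : ∀ {M : Type z} [AddCommGroup M] (φ : D.P → M), ∑ i, φ (L i) = ∑ p ∈ Z, N p • φ p := by
    intro M _ φ
    rw [(Fintype.equivFin T).symm.sum_comp (fun t : T => φ t.1.1), Fintype.sum_sigma,
      ← Finset.sum_attach Z]
    simp
  let cnt : ℕ → D.P → ℕ := fun i p => (Finset.univ.filter fun j : Fin m => j.1 < i ∧ L j = p).card
  have hcnt_m : ∀ p ∈ Z, cnt m p = N p := fun p hp => by
    simp only [cnt, Fin.is_lt, true_and, Finset.card_filter]
    show ∑ j : Fin m, (fun t : T => if t.1.1 = p then 1 else 0) ((Fintype.equivFin T).symm j) = N p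
    rw [(Fintype.equivFin T).symm.sum_comp (fun t : T => if t.1.1 = p then 1 else 0), Fintype.sum_sigma,
      Finset.sum_eq_single (⟨p, hp⟩ : {q // q ∈ Z}) (fun q _ hq => by
        simp [show q.1 ≠ p from fun h => hq (Subtype.ext h)]) (fun hh => absurd (Finset.mem_univ _) hh)]
    simp
  have hcnt : ∀ (i : Fin m) (p : D.P), cnt (i.1 + 1) p = cnt i p + if L i = p then 1 else 0 := by
    intro i p
    simp only [cnt, Finset.card_filter]
    rw [show (if L i = p then 1 else 0 : ℕ) = ∑ j : Fin m, if j = i then (if L i = p then 1 else 0) else 0 by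
      simp, ← Finset.sum_add_distrib]
    refine Finset.sum_congr rfl fun j _ => ?_
    rcases eq_or_ne j i with rfl | hj
    · simp
    · have : j.1 ≠ i.1 := fun h => hj (Fin.ext h)
      simp only [hj, if_false, add_zero]
      exact if_congr (and_congr_left fun _ => by omega) rfl rfl
  choose π hπ1 hπ0 using fun i => D.exists_unif Z (L i)
  let g : Fin m → B := fun i => ∏ j ∈ Finset.univ.filter (fun j => j.1 < i.1), π j
  have hg : ∀ i, ∀ p ∈ Z, D.v p (D.γ (g i)) = exp (-(cnt i p : ℤ)) := fun i p hp => by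
    simp only [g, map_prod]
    rw [Finset.prod_congr rfl (g := fun j => if L j = p then exp (-1) else 1) fun j _ => by
      rcases eq_or_ne (L j) p with h | h
      · rw [if_pos h, ← h, hπ1]
      · rw [if_neg h, hπ0 j p hp (Ne.symm h)]]
    rw [Finset.prod_ite, Finset.prod_const, Finset.prod_const_one, mul_one, ← exp_nsmul,
      Finset.filter_filter]
    simp [cnt]
  let E : ℕ → Submodule k B := fun i =>
    { carrier := {b | ∀ p ∈ Z, D.v p (D.γ b) ≤ exp (-(cnt i p : ℤ))}
      add_mem' := fun {x y} hx hy p hp => by rw [map_add]; exact Valuation.map_add_le _ (hx p hp) (hy p hp)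
      zero_mem' := fun p _ => by simp
      smul_mem' := fun r x hx p hp => by
        rw [Algebra.smul_def, map_mul, map_mul]
        exact (mul_le_of_le_one_left' (D.le_one p _)).trans (hx p hp) }
  have hstep : ∀ (i : Fin m) (b : B), b ∈ E i → D.v (L i) (D.γ b) < exp (-(cnt i (L i) : ℤ)) →
      b ∈ E (i.1 + 1) := by
    intro i b hb hlt p hp
    rw [hcnt]
    rcases eq_or_ne (L i) p with rfl | hne
    · rw [if_pos rfl]
      exact (lt_exp_imp hlt).trans_eq (by congr 1; push_cast; ring)
    · simpa [hne] using hb p hp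
  have hgE : ∀ i : Fin m, g i ∈ E i := fun i p hp => (hg i p hp).le
  have hchi : ∀ (i : Fin m) (x : B), x * g i - D.χ (L i) x • g i ∈ E (i.1 + 1) := by
    intro i x
    have e1 : x * g i - D.χ (L i) x • g i = (x - algebraMap k B (D.χ (L i) x)) * g i := by
      rw [sub_mul, Algebra.smul_def]
    rw [e1]
    refine hstep i _ (fun p hp => ?_) ?_
    · rw [map_mul, map_mul]
      exact (mul_le_of_le_one_left' (D.le_one p _)).trans (hgE i p hp)
    · rw [map_mul, map_mul, hg i _ (hLZ i)]
      conv_rhs => rw [← one_mul (exp _)]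
      refine mul_lt_mul_of_pos_right ?_ exp_pos
      rw [D.lt_one_iff]; simp
  have hspan : ∀ i ≤ m, ∀ b ∈ E i,
      prL e a b ∈ Submodule.span k (Set.range fun j : {j : Fin m // i ≤ j.1} => prL e a (g j)) := by
    intro i hi
    induction hi using Nat.decreasingInduction with
    | self =>
      intro b hb
      obtain ⟨q, hq⟩ := D.mem (D.γ b / D.γ τ) fun p => by
        rw [map_div₀, hN, div_le_iff₀ exp_pos, one_mul]
        by_cases hp : p ∈ Z
        · exact (hb p hp).trans_eq (by rw [hcnt_m p hp])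
        · rw [hZ p hp]; simpa using D.le_one p b
      rw [(pr_eq_zero_iff e a b).2 ⟨q, D.inj (by rw [map_mul, hq, mul_div_cancel₀ _ hτ])⟩]
      exact zero_mem _
    | of_succ i hi ih =>
      intro b hb
      let I : Fin m := ⟨i, hi⟩
      have hgne : D.v (L I) (D.γ (g I)) ≠ 0 := by rw [hg I _ (hLZ I)]; exact exp_ne_zero
      obtain ⟨r, hr⟩ := D.value (L I) (D.γ b / D.γ (g I)) (by
        rw [map_div₀, div_le_iff₀ (pos_iff_ne_zero.2 hgne), one_mul, hg I _ (hLZ I)]
        exact hb _ (hLZ I))
      have hb' : b - r • g I ∈ E (i + 1) := by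
        refine hstep I _ (sub_mem hb (Submodule.smul_mem _ r (hgE I))) ?_
        have hne : D.γ (g I) ≠ 0 := fun h0 => hgne (by rw [h0, map_zero])
        have e2 : D.γ (b - r • g I) = (D.γ b / D.γ (g I) - D.γ (algebraMap k B r)) * D.γ (g I) := by
          rw [sub_mul, div_mul_cancel₀ _ hne, map_sub, Algebra.smul_def, map_mul]
        rw [e2, map_mul, hg I _ (hLZ I)]
        conv_rhs => rw [← one_mul (exp _)]
        exact mul_lt_mul_of_pos_right hr exp_pos
      have e3 : prL e a b = prL e a (b - r • g I) + r • prL e a (g I) := by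
        rw [map_sub, map_smul, sub_add_cancel]
      rw [e3]
      refine add_mem (Submodule.span_mono ?_ (ih _ hb')) (Submodule.smul_mem _ _ (Submodule.subset_span ?_))
      · rintro _ ⟨⟨j, hj⟩, rfl⟩
        exact ⟨⟨j, by omega⟩, rfl⟩
      · exact ⟨⟨I, le_rfl⟩, rfl⟩
  have htop : ⊤ ≤ Submodule.span k (Set.range fun j : Fin m => prL e a (g j)) := by
    intro x _
    obtain ⟨b, rfl⟩ := pr_surjective e a x
    refine Submodule.span_mono ?_ (hspan 0 (Nat.zero_le _) b fun p _ => ?_)
    · rintro _ ⟨j, rfl⟩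
      exact ⟨j, rfl⟩
    · simpa [cnt] using D.le_one p b
  have hli : LinearIndependent k fun j : Fin m => prL e a (g j) := by
    rw [Fintype.linearIndependent_iff]
    intro c hc
    have hd : τ ∣ ∑ j, c j • g j := (pr_eq_zero_iff e a _).1 (by simpa [map_sum] using hc)
    obtain ⟨y, hy⟩ := hd
    by_contra hne
    push Not at hne
    let J := Finset.univ.filter fun j => c j ≠ 0
    have hJ : J.Nonempty := hne.elim fun j hj => ⟨j, by simp [J, hj]⟩
    let i := J.min' hJ
    have hci : c i ≠ 0 := (Finset.mem_filter.1 (J.min'_mem hJ)).2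
    have hcp : cnt (i.1 + 1) (L i) ≤ N (L i) := by
      rw [← hcnt_m _ (hLZ i)]
      exact Finset.card_le_card fun j hj => by
        simp only [Finset.mem_filter] at hj ⊢
        exact ⟨hj.1, j.2, hj.2.2⟩
    have hlt : exp (-(cnt (i.1 + 1) (L i) : ℤ)) < exp (-(cnt i (L i) : ℤ)) := by
      rw [exp_lt_exp, hcnt, if_pos rfl]; omega
    have hterm : D.v (L i) (D.γ (c i • g i)) = exp (-(cnt i (L i) : ℤ)) := by
      rw [Algebra.smul_def, map_mul, map_mul, hg i _ (hLZ i), D.eq_one, one_mul]
      simpa using hci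
    have hrest : D.v (L i) (D.γ (∑ j ∈ Finset.univ.erase i, c j • g j)) < exp (-(cnt i (L i) : ℤ)) := by
      rw [map_sum]
      refine Valuation.map_sum_lt _ exp_ne_zero fun j hj => ?_
      by_cases hcj : c j = 0
      · simp [hcj]
      · have hij : i.1 < j.1 := by
          have h1 : i ≤ j := J.min'_le j (by simp [J, hcj])
          have h2 : j ≠ i := (Finset.mem_erase.1 hj).1
          exact Fin.lt_def.1 (lt_of_le_of_ne h1 (Ne.symm h2))
        refine lt_of_le_of_lt ?_ hlt
        rw [Algebra.smul_def, map_mul, map_mul, hg j _ (hLZ i)]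
        refine (mul_le_of_le_one_left' (D.le_one _ _)).trans ?_
        rw [exp_le_exp, neg_le_neg_iff, Nat.cast_le]
        exact Finset.card_le_card fun l hl => by
          simp only [Finset.mem_filter] at hl ⊢
          exact ⟨hl.1, by omega, hl.2.2⟩
    have hall : D.v (L i) (D.γ (∑ j, c j • g j)) = exp (-(cnt i (L i) : ℤ)) := by
      rw [← Finset.add_sum_erase _ _ (Finset.mem_univ i), map_add,
        Valuation.map_add_eq_of_lt_left _ (hterm.symm ▸ hrest), hterm]
    refine absurd hall (ne_of_lt ?_)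
    rw [hy, map_mul, map_mul, hN]
    refine lt_of_le_of_lt ((mul_le_of_le_one_right' (D.le_one _ _)).trans ?_) hlt
    rw [exp_le_exp, neg_le_neg_iff, Nat.cast_le]
    exact hcp
  let bs := Basis.mk hli htop
  have hmn : m = n := by simpa using Fintype.card_congr (bs.indexEquiv (Pi.basisFun k (Fin n)))
  let ε : Fin n ≃ Fin m := finCongr hmn.symm
  have hεle : ∀ i j : Fin n, (ε i).1 = i.1 := fun i _ => rfl
  refine ⟨fun i => L (ε i), fun i => g (ε i), fun φ => (ε.sum_comp fun i => φ (L i)).trans (hsum φ),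
    ?_, fun i x => ?_⟩
  · have hM : IsUnit (Matrix.of fun i => π' (g (ε i))) :=
      Matrix.linearIndependent_rows_iff_isUnit.1 (hli.comp ε ε.injective)
    rw [Basis.det_apply, AlgHom.map_det, ← Matrix.det_transpose]
    exact ((Matrix.isUnit_iff_isUnit_det _).1 hM).ne_zero
  · have h := hspan _ (ε i).2 _ (hchi (ε i) x)
    rw [Submodule.mem_span_range_iff_exists_fun] at h
    obtain ⟨r, hr⟩ := h
    let r' : Fin m → k := fun j => if hj : (ε i).1 + 1 ≤ j.1 then r ⟨j, hj⟩ else 0
    refine ⟨fun j => r' (ε j), fun j hj => dif_neg (by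
      have h1 : j.1 ≤ i.1 := hj
      show ¬ i.1 + 1 ≤ j.1
      omega), ?_⟩
    show prL e a _ = _ • prL e a _ + ∑ j, _ • prL e a (g (ε j))
    rw [ε.sum_comp (fun j => r' j • prL e a (g j)), ← map_smul, ← sub_eq_iff_eq_add', ← map_sub, ← hr,
      ← Finset.sum_filter_add_sum_filter_not Finset.univ (fun j : Fin m => (ε i).1 + 1 ≤ j.1)]
    rw [Finset.sum_eq_zero (s := Finset.univ.filter fun j : Fin m => ¬ (ε i).1 + 1 ≤ j.1) (fun j hj => by
      simp only [r']; rw [dif_neg (Finset.mem_filter.1 hj).2, zero_smul]), add_zero]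
    rw [Finset.sum_subtype (p := fun j : Fin m => (ε i).1 + 1 ≤ j.1) _ (fun j => by simp)]
    exact Finset.sum_congr rfl fun j _ => by simp only [r']; rw [dif_pos j.2]

end

end Groth.Agent.SymNorm
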