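import Groth.Agent.SymNorm.Alg
import Groth.Agent.SGA1Q.Affine
import Groth.Prelude.Def_SymProd

/-! Symmetric powers of affine schemes over a field, and the sum of a section over a fibre. -/

set_option autoImplicit false
set_option backward.isDefEq.respectTransparency false
universe v u

open scoped TensorProduct
open Module CategoryTheory CategoryTheory.Limits AlgebraicGeometry Opposite

namespace Groth.Agent.SymNorm

noncomputable section

theorem isQuot_of_iso {X X' Y : Scheme.{u}} {G : Type u} [Group G] {ρ : G →* Aut X} {ρ' : G →* Aut X'}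
    (E : X ≅ X') (hE : ∀ g, (ρ g).hom ≫ E.hom = E.hom ≫ (ρ' g).hom) {p : X' ⟶ Y}
    (hp : SGA1.IsQuot ρ' p) : SGA1.IsQuot ρ (E.hom ≫ p) := by
  have hb : ∀ U : X'.Opens, Function.Bijective (E.hom.app U).hom := fun U =>
    ConcreteCategory.bijective_of_isIso (E.hom.app U)
  haveI := hp.affine
  refine ⟨inferInstance, fun g => by rw [reassoc_of% hE, hp.inv], fun U => ?_, fun U s => ?_⟩
  · exact ((hb _).1.comp (hp.injective U) : _)
  · obtain ⟨s', rfl⟩ := (hb (p ⁻¹ᵁ U)).2 s
    have key : ∀ g, ((ρ g).hom.appLE _ _ (SGA1.preimage_le_of_inv ρ (E.hom ≫ p)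
          (fun g => by rw [reassoc_of% hE, hp.inv]) g U)).hom ((E.hom.app (p ⁻¹ᵁ U)).hom s') =
        (E.hom.app (p ⁻¹ᵁ U)).hom (((ρ' g).hom.appLE _ _
          (SGA1.preimage_le_of_inv ρ' p hp.inv g U)).hom s') := fun g => by
      have hm : E.hom.app (p ⁻¹ᵁ U) ≫ (ρ g).hom.appLE _ _ (SGA1.preimage_le_of_inv ρ (E.hom ≫ p)
            (fun g => by rw [reassoc_of% hE, hp.inv]) g U) =
          (ρ' g).hom.appLE _ _ (SGA1.preimage_le_of_inv ρ' p hp.inv g U) ≫ E.hom.app (p ⁻¹ᵁ U) := by
        rw [Scheme.Hom.app_eq_appLE]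
        erw [Scheme.Hom.appLE_comp_appLE, Scheme.Hom.appLE_comp_appLE]
        simp only [hE]
        rfl
      exact congr($(hm).hom s')
    constructor
    · rintro ⟨a, ha⟩ g
      have ha' : (p.app U).hom a = s' := (hb _).1 ha
      rw [key, (hp.range_iff U s').1 ⟨a, ha'⟩ g]
    · intro h
      obtain ⟨a, ha⟩ := (hp.range_iff U s').2 fun g => (hb _).1 ((key g).symm.trans (h g))
      exact ⟨a, congrArg (E.hom.app (p ⁻¹ᵁ U)).hom ha⟩

variable (k B : Type u) [Field k] [CommRing B] [Algebra k B] (n : ℕ)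

local notation "TT" => ⨂[k] _ : Fin n, B
local notation "sB" => Spec.map (CommRingCat.ofHom (algebraMap k B))

/-- The single factor embedding. -/
def sgl (i : Fin n) : CommRingCat.of B ⟶ CommRingCat.of TT :=
  CommRingCat.ofHom (PiTensorProduct.singleAlgHom (R := k) (A := fun _ : Fin n => B) i).toRingHom

theorem algebraMap_sgl (i : Fin n) :
    CommRingCat.ofHom (algebraMap k B) ≫ sgl k B n i = CommRingCat.ofHom (algebraMap k TT) := by
  ext1
  exact AlgHom.comp_algebraMap (PiTensorProduct.singleAlgHom (R := k) (A := fun _ : Fin n => B) i)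

/-- The comparison from the spectrum of the tensor power. -/
def toFib : Spec (CommRingCat.of TT) ⟶ SymProd.fibPow sB n :=
  WidePullback.lift (Spec.map (CommRingCat.ofHom (algebraMap k TT))) (fun i => Spec.map (sgl k B n i))
    fun i => by rw [← Spec.map_comp, algebraMap_sgl]

@[reassoc] theorem toFib_π (i : Fin n) :
    toFib k B n ≫ WidePullback.π (fun _ : Fin n => sB) i = Spec.map (sgl k B n i) :=
  WidePullback.lift_π _ _ _ _ i

@[reassoc] theorem toFib_base :
    toFib k B n ≫ WidePullback.base (fun _ : Fin n => sB) = Spec.map (CommRingCat.ofHom (algebraMap k TT)) :=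
  WidePullback.lift_base _ _ _ _

theorem toFib_ext {W : Scheme.{u}} {f g : W ⟶ SymProd.fibPow sB n}
    (hb : f ≫ WidePullback.base _ = g ≫ WidePullback.base _)
    (h : ∀ i, f ≫ WidePullback.π _ i = g ≫ WidePullback.π _ i) : f = g :=
  WidePullback.hom_ext _ _ _ h hb

/-- Algebra maps out of the tensor power are determined on the factors. -/
theorem hom_ext {R : CommRingCat.{u}} {f g : CommRingCat.of TT ⟶ R}
    (hb : CommRingCat.ofHom (algebraMap k TT) ≫ f = CommRingCat.ofHom (algebraMap k TT) ≫ g)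
    (h : ∀ i, sgl k B n i ≫ f = sgl k B n i ≫ g) : f = g := by
  letI : Algebra k R := (f.hom.comp (algebraMap k TT)).toAlgebra
  let fA : TT →ₐ[k] R := { f.hom with commutes' := fun _ => rfl }
  let gA : TT →ₐ[k] R := { g.hom with commutes' := fun a => congr($(hb.symm).hom a) }
  have : fA = gA := PiTensorProduct.algHom_ext fun i => AlgHom.ext fun b => congr($(h i).hom b)
  ext1
  exact congrArg AlgHom.toRingHom this

instance : IsIso (toFib k B n) := by
  classical
  let W := SymProd.fibPow sB n
  let pb := (Scheme.ΓSpecIso (CommRingCat.of k)).inv ≫ (WidePullback.base (fun _ : Fin n => sB)).appTop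
  let pp : Fin n → (CommRingCat.of B ⟶ Γ(W, ⊤)) := fun i =>
    (Scheme.ΓSpecIso (CommRingCat.of B)).inv ≫ (WidePullback.π (fun _ : Fin n => sB) i).appTop
  have hpp : ∀ i, CommRingCat.ofHom (algebraMap k B) ≫ pp i = pb := fun i => by
    simp only [pp, pb]
    rw [Scheme.ΓSpecIso_inv_naturality_assoc, ← Scheme.Hom.comp_appTop, WidePullback.π_arrow]
  letI : Algebra k Γ(W, ⊤) := pb.hom.toAlgebra
  let pA : Fin n → (B →ₐ[k] Γ(W, ⊤)) := fun i =>
    { (pp i).hom with commutes' := fun a => congr($(hpp i).hom a) }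
  let Φ : TT →ₐ[k] Γ(W, ⊤) :=
    PiTensorProduct.liftAlgHom
      ((MultilinearMap.mkPiAlgebra k (Fin n) Γ(W, ⊤)).compLinearMap fun i => (pA i).toLinearMap)
      (by simp) (fun x y => by simp [Finset.prod_mul_distrib])
  have hΦt : ∀ x : Fin n → B, Φ (PiTensorProduct.tprod k x) = ∏ i, pA i (x i) := fun x => by
    simp [Φ]
  have hΦ : ∀ i, Φ.comp (PiTensorProduct.singleAlgHom i) = pA i := fun i => AlgHom.ext fun a => by
    simp only [AlgHom.comp_apply, PiTensorProduct.singleAlgHom_apply, MonoidHom.mulSingle_apply, hΦt]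
    rw [Finset.prod_eq_single i (fun j _ hj => by rw [Pi.mulSingle_eq_of_ne hj, map_one])
      (fun h => absurd (Finset.mem_univ i) h), Pi.mulSingle_eq_same]
  let φ : CommRingCat.of TT ⟶ Γ(W, ⊤) := CommRingCat.ofHom Φ.toRingHom
  have h1 : ∀ i, sgl k B n i ≫ φ = pp i := fun i => by
    ext1; exact congrArg AlgHom.toRingHom (hΦ i)
  have h0 : CommRingCat.ofHom (algebraMap k TT) ≫ φ = pb := by
    ext1; exact Φ.comp_algebraMap
  have hadj : ∀ {R : CommRingCat.{u}} (f : W ⟶ Spec R),
      f = W.toSpecΓ ≫ Spec.map ((Scheme.ΓSpecIso R).inv ≫ f.appTop) := fun {R} f => by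
    rw [Spec.map_comp, ← Scheme.toSpecΓ_naturality_assoc, toSpecΓ_SpecMap_ΓSpecIso_inv, Category.comp_id]
  refine ⟨W.toSpecΓ ≫ Spec.map φ, ?_, ?_⟩
  · rw [← Category.assoc]
    have hs : toFib k B n ≫ W.toSpecΓ =
        (Spec (CommRingCat.of TT)).toSpecΓ ≫ Spec.map (toFib k B n).appTop :=
      Scheme.toSpecΓ_naturality _
    rw [hs, Category.assoc, ← Spec.map_comp, ← SpecMap_ΓSpecIso_hom, ← Spec.map_comp, ← Spec.map_id]
    congr 1
    refine hom_ext k B n ?_ fun i => ?_
    · simp only [Category.assoc]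
      rw [reassoc_of% h0, Category.comp_id]
      simp only [pb, Category.assoc]
      rw [← Scheme.Hom.comp_appTop_assoc, toFib_base, Scheme.ΓSpecIso_naturality, Iso.inv_hom_id_assoc]
    · simp only [Category.assoc]
      rw [reassoc_of% (h1 i), Category.comp_id]
      simp only [pp, Category.assoc]
      rw [← Scheme.Hom.comp_appTop_assoc, toFib_π, Scheme.ΓSpecIso_naturality, Iso.inv_hom_id_assoc]
  · refine toFib_ext k B n ?_ fun i => ?_
    · rw [Category.assoc, Category.assoc, toFib_base, ← Spec.map_comp, h0, Category.id_comp]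
      exact (hadj _).symm
    · rw [Category.assoc, Category.assoc, toFib_π, ← Spec.map_comp, h1, Category.id_comp]
      exact (hadj _).symm

/-- The action on the spectrum of the tensor power. -/
def specAct : ULift.{u} (Equiv.Perm (Fin n)) →* Aut (Spec (CommRingCat.of TT)) :=
  ((asIso (toFib k B n)).symm.conjAut).toMonoidHom.comp (SymProd.permActU sB n)

theorem toFib_permHom (σ : Equiv.Perm (Fin n)) :
    toFib k B n ≫ SymProd.permHom sB n σ =
      Spec.map (CommRingCat.ofHom (SymTen.perm k B n σ⁻¹).toRingHom) ≫ toFib k B n := by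
  refine toFib_ext k B n ?_ fun i => ?_
  · rw [Category.assoc, Category.assoc, SymProd.permHom_base, toFib_base, ← Spec.map_comp]
    congr 1
    ext1
    exact (SymTen.perm k B n σ⁻¹).comp_algebraMap.symm
  · rw [Category.assoc, Category.assoc, SymProd.permHom_π, toFib_π, toFib_π, ← Spec.map_comp]
    congr 1
    ext b
    show PiTensorProduct.singleAlgHom (R := k) (A := fun _ : Fin n => B) (σ.symm i) b =
      SymTen.perm k B n σ⁻¹ (PiTensorProduct.singleAlgHom (R := k) (A := fun _ : Fin n => B) i b)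
    simp only [PiTensorProduct.singleAlgHom_apply, MonoidHom.mulSingle_apply, SymTen.perm_tprod]
    congr 1
    funext j
    simp only [Pi.mulSingle_apply, Equiv.Perm.inv_def, Equiv.symm_symm]
    exact if_congr (by rw [Equiv.eq_symm_apply]) rfl rfl

theorem specAct_hom (σ : ULift.{u} (Equiv.Perm (Fin n))) :
    (specAct k B n σ).hom = Spec.map (CommRingCat.ofHom (SymTen.perm k B n σ.down⁻¹).toRingHom) := by
  show (asIso (toFib k B n)).hom ≫ SymProd.permHom sB n σ.down ≫ (asIso (toFib k B n)).inv = _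
  rw [← Category.assoc, Iso.comp_inv_eq]
  exact toFib_permHom k B n σ.down

/-- The quotient map to the spectrum of symmetric tensors. -/
def toSym : SymProd.fibPow sB n ⟶ Spec (CommRingCat.of (SymTen.TS k B n)) :=
  inv (toFib k B n) ≫ Spec.map (CommRingCat.ofHom (SymTen.TS k B n).val.toRingHom)

theorem isSymProd_toSym : SymProd.IsSymProd sB n (toSym k B n)
    (Spec.map (CommRingCat.ofHom (algebraMap k (SymTen.TS k B n)))) := by
  refine ⟨?_, ?_⟩
  · let act : MulSemiringAction (ULift.{u} (Equiv.Perm (Fin n))) TT :=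
      { smul := fun σ t => SymTen.perm k B n σ.down t
        one_smul := fun t => by
          show SymTen.perm k B n 1 t = t
          rw [SymTen.perm_apply]
          induction t using PiTensorProduct.induction_on with
          | smul_tprod r f => simp [PiTensorProduct.reindex_tprod]; rfl
          | add x y hx hy => rw [map_add, hx, hy]
        mul_smul := fun σ τ t => by
          show SymTen.perm k B n (σ.down * τ.down) t = SymTen.perm k B n σ.down (SymTen.perm k B n τ.down t)
          induction t using PiTensorProduct.induction_on with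
          | smul_tprod r f =>
            simp only [map_smul, SymTen.perm_tprod]; rfl
          | add x y hx hy => simp only [map_add, hx, hy]
        smul_zero := fun σ => map_zero _
        smul_add := fun σ => map_add _
        smul_one := fun σ => map_one _
        smul_mul := fun σ => map_mul _ }
    have hmem : ∀ σ : Equiv.Perm (Fin n), ∀ b : SymTen.TS k B n, SymTen.perm k B n σ b.1 = b.1 :=
      fun σ b => by rw [SymTen.perm_apply]; exact b.2 σ
    letI := act
    haveI : SMulCommClass (ULift.{u} (Equiv.Perm (Fin n))) (SymTen.TS k B n) TT := ⟨fun σ b t => by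
      show SymTen.perm k B n σ.down (b.1 * t) = b.1 * SymTen.perm k B n σ.down t
      rw [map_mul, hmem]⟩
    haveI : Algebra.IsInvariant (SymTen.TS k B n) TT (ULift.{u} (Equiv.Perm (Fin n))) := ⟨fun t ht =>
      ⟨⟨t, fun σ => by rw [← SymTen.perm_apply]; exact ht ⟨σ⟩⟩, rfl⟩⟩
    haveI : FaithfulSMul (SymTen.TS k B n) TT :=
      (faithfulSMul_iff_algebraMap_injective _ _).2 Subtype.val_injective
    have h := SGA1Q.isQuot_Spec (ULift.{u} (Equiv.Perm (Fin n))) TT (SymTen.TS k B n) (specAct k B n) (by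
      refine Set.Subset.antisymm ?_ ?_
      · rintro _ ⟨σ, rfl⟩
        exact ⟨σ⁻¹, (specAct_hom k B n σ).symm⟩
      · rintro _ ⟨σ, rfl⟩
        exact ⟨σ⁻¹, (specAct_hom k B n σ⁻¹).trans (by
          show Spec.map (CommRingCat.ofHom (SymTen.perm k B n (σ⁻¹).down⁻¹).toRingHom) = _
          rw [show (σ⁻¹).down⁻¹ = σ.down from inv_inv _]
          rfl)⟩)
    exact isQuot_of_iso (asIso (toFib k B n)).symm (fun σ => by
      show SymProd.permHom sB n σ.down ≫ (asIso (toFib k B n)).inv = (asIso (toFib k B n)).inv ≫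
        ((asIso (toFib k B n)).hom ≫ SymProd.permHom sB n σ.down ≫ (asIso (toFib k B n)).inv)
      rw [Iso.inv_hom_id_assoc]) h
  · rw [toSym, Category.assoc, ← Spec.map_comp, IsIso.inv_comp_eq, toFib_base]
    congr 1

variable {k B n}

theorem toFib_toSym : toFib k B n ≫ toSym k B n =
    Spec.map (CommRingCat.ofHom (SymTen.TS k B n).val.toRingHom) := by
  rw [toSym, IsIso.hom_inv_id_assoc]

variable (F : (Over (Spec (CommRingCat.of k)))ᵒᵖ ⥤ AddCommGrpCat.{v})

/-- A character as a point. -/
def charPt (χ : B →ₐ[k] k) :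
    Over.mk (𝟙 (Spec (CommRingCat.of k))) ⟶ Over.mk sB :=
  Over.homMk (Spec.map (CommRingCat.ofHom χ.toRingHom)) (by
    show Spec.map _ ≫ sB = 𝟙 _
    rw [← Spec.map_comp, ← Spec.map_id]
    congr 1
    ext1
    exact χ.comp_algebraMap)

variable [Algebra (Polynomial k) B] [IsScalarTower k (Polynomial k) B]

/-- The sum of a section over the fibres of a finite free map to the line is constant. -/
theorem sum_eq
    (ha : Function.Surjective (F.map (Over.homMk
        (Spec.map (CommRingCat.ofHom (algebraMap k (Polynomial k))))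
        (Category.comp_id _) :
        Over.mk (Spec.map (CommRingCat.ofHom (algebraMap k (Polynomial k)))) ⟶
          Over.mk (𝟙 (Spec (CommRingCat.of k)))).op))
    (hb : ∀ (Y : Scheme.{u}) (q : SymProd.fibPow sB n ⟶ Y) (g : Y ⟶ Spec (CommRingCat.of k))
        (h : SymProd.IsSymProd sB n q g),
        Set.range (F.map (Over.homMk q h.over :
            Over.mk (WidePullback.base fun _ : Fin n => sB) ⟶ Over.mk g).op) =
          {η | ∀ σ : Equiv.Perm (Fin n),
            F.map (Over.homMk (SymProd.permHom sB n σ) (SymProd.permHom_base sB n σ) :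
              Over.mk (WidePullback.base fun _ : Fin n => sB) ⟶
                Over.mk (WidePullback.base fun _ : Fin n => sB)).op η = η})
    (e : Basis (Fin n) (Polynomial k) B) (a b : k) (χ χ' : Fin n → (B →ₐ[k] k)) (g g' : Fin n → B)
    (hg : (Polynomial.aeval a : Polynomial k →ₐ[k] k) (e.det g) ≠ 0)
    (hg' : (Polynomial.aeval b : Polynomial k →ₐ[k] k) (e.det g') ≠ 0)
    (ht : ∀ i x, ∃ r : Fin n → k, (∀ j, j ≤ i → r j = 0) ∧
      pr k e (Polynomial.aeval a) (x * g i) = χ i x • pr k e (Polynomial.aeval a) (g i) +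
        ∑ j, r j • pr k e (Polynomial.aeval a) (g j))
    (ht' : ∀ i x, ∃ r : Fin n → k, (∀ j, j ≤ i → r j = 0) ∧
      pr k e (Polynomial.aeval b) (x * g' i) = χ' i x • pr k e (Polynomial.aeval b) (g' i) +
        ∑ j, r j • pr k e (Polynomial.aeval b) (g' j))
    (ξ : F.obj (op (Over.mk sB))) :
    ∑ i, F.map (charPt (χ i)).op ξ = ∑ i, F.map (charPt (χ' i)).op ξ := by
  have e0 : ∀ {P Q R : Over (Spec (CommRingCat.of k))} (f : P ⟶ Q) (f' : Q ⟶ R) z,
      F.map f.op (F.map f'.op z) = F.map (f ≫ f').op z := fun f f' z => by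
    rw [op_comp, F.map_comp]; rfl
  let Vn := Over.mk (WidePullback.base fun _ : Fin n => sB)
  let πO : Fin n → (Vn ⟶ Over.mk sB) := fun i =>
    Over.homMk (WidePullback.π (fun _ : Fin n => sB) i) (WidePullback.π_arrow _ i)
  let η : F.obj (op Vn) := ∑ i, F.map (πO i).op ξ
  have hη : ∀ σ : Equiv.Perm (Fin n),
      F.map (Over.homMk (SymProd.permHom sB n σ) (SymProd.permHom_base sB n σ) : Vn ⟶ Vn).op η = η := by
    intro σ
    simp only [η, map_sum, e0]
    refine Fintype.sum_equiv σ.symm _ _ fun i => ?_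
    refine congrArg (fun m => F.map (Quiver.Hom.op m) ξ) ?_
    ext1
    exact SymProd.permHom_π sB n σ i
  have hη' : η ∈ {η | ∀ σ : Equiv.Perm (Fin n),
      F.map (Over.homMk (SymProd.permHom sB n σ) (SymProd.permHom_base sB n σ) : Vn ⟶ Vn).op η = η} := hη
  rw [← hb _ _ _ (isSymProd_toSym k B n)] at hη'
  obtain ⟨ζ, hζ⟩ := hη'
  let ν : Over.mk (Spec.map (CommRingCat.ofHom (algebraMap k (Polynomial k)))) ⟶
      Over.mk (Spec.map (CommRingCat.ofHom (algebraMap k (SymTen.TS k B n)))) :=
    Over.homMk (Spec.map (CommRingCat.ofHom (norm k e).toRingHom)) (by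
      show Spec.map _ ≫ Spec.map _ = Spec.map _
      rw [← Spec.map_comp]
      congr 1
      ext1
      exact (norm k e).comp_algebraMap)
  obtain ⟨z, hz⟩ := ha (F.map ν.op ζ)
  suffices h : ∀ (a : k) (χ : Fin n → (B →ₐ[k] k)),
      (∀ s, (Polynomial.aeval a : Polynomial k →ₐ[k] k) (norm k e s) = evT k χ s.1) →
      ∑ i, F.map (charPt (χ i)).op ξ = z by
    rw [h a χ (psi_norm k e _ χ g hg ht), h b χ' (psi_norm k e _ χ' g' hg' ht')]
  intro a χ hN
  let pa : Over.mk (𝟙 (Spec (CommRingCat.of k))) ⟶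
      Over.mk (Spec.map (CommRingCat.ofHom (algebraMap k (Polynomial k)))) :=
    Over.homMk (Spec.map (CommRingCat.ofHom (Polynomial.aeval a : Polynomial k →ₐ[k] k).toRingHom)) (by
      show Spec.map _ ≫ Spec.map _ = 𝟙 _
      rw [← Spec.map_comp, ← Spec.map_id]
      congr 1
      ext1
      exact (Polynomial.aeval a : Polynomial k →ₐ[k] k).comp_algebraMap)
  let pn : Over.mk (𝟙 (Spec (CommRingCat.of k))) ⟶ Vn :=
    Over.homMk (Spec.map (CommRingCat.ofHom (evT k χ).toRingHom) ≫ toFib k B n) (by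
      show (Spec.map _ ≫ toFib k B n) ≫ WidePullback.base (fun _ : Fin n => sB) =
        𝟙 (Spec (CommRingCat.of k))
      rw [Category.assoc, toFib_base, ← Spec.map_comp, ← Spec.map_id]
      congr 1
      ext1
      exact (evT k χ).comp_algebraMap)
  have hsq : pn ≫ (Over.homMk (toSym k B n) (isSymProd_toSym k B n).over :
      Vn ⟶ Over.mk (Spec.map (CommRingCat.ofHom (algebraMap k (SymTen.TS k B n))))) = pa ≫ ν := by
    ext1
    show (_ ≫ toFib k B n) ≫ toSym k B n = Spec.map _ ≫ Spec.map _
    rw [Category.assoc, toFib_toSym, ← Spec.map_comp, ← Spec.map_comp]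
    congr 1
    ext s
    exact (hN s).symm
  have hπ : ∀ i, pn ≫ πO i = charPt (χ i) := fun i => by
    ext1
    show (_ ≫ toFib k B n) ≫ WidePullback.π _ i = Spec.map _
    rw [Category.assoc, toFib_π, ← Spec.map_comp]
    congr 1
    ext x
    show evT k χ (PiTensorProduct.singleAlgHom (R := k) (A := fun _ : Fin n => B) i x) = χ i x
    rw [PiTensorProduct.singleAlgHom_apply, MonoidHom.mulSingle_apply, evT_tprod]
    rw [Finset.prod_eq_single i (fun j _ hj => by rw [Pi.mulSingle_eq_of_ne hj, map_one])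
      (fun h => absurd (Finset.mem_univ i) h), Pi.mulSingle_eq_same]
  calc ∑ i, F.map (charPt (χ i)).op ξ = F.map pn.op η := by simp only [η, map_sum, e0, hπ]
    _ = F.map pa.op (F.map ν.op ζ) := by rw [← hζ, e0, hsq, ← e0]
    _ = z := by
      rw [← hz, e0]
      have : pa ≫ (Over.homMk (Spec.map (CommRingCat.ofHom (algebraMap k (Polynomial k))))
          (Category.comp_id _) : Over.mk (Spec.map (CommRingCat.ofHom (algebraMap k (Polynomial k)))) ⟶
            Over.mk (𝟙 (Spec (CommRingCat.of k)))) = 𝟙 _ := by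
        ext1; exact Over.w pa
      rw [this, op_id, F.map_id]; rfl

end

end Groth.Agent.SymNorm
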