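import Groth.Agent.LocSymLib.Bridge
import Groth.Agent.HyperP1.LineMap
import Groth.Agent.SymNorm.Chain
import Groth.Agent.SymNorm.Quot
import Groth.Agent.VarDim.Basic

/-! The affine part of a smooth proper curve where a rational function is regular, as point data. -/

noncomputable section

set_option autoImplicit false
set_option linter.style.haveILetI false
set_option linter.unusedSectionVars false
set_option backward.isDefEq.respectTransparency false
set_option backward.isDefEq.respectTransparency.types false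

universe u

open CategoryTheory CategoryTheory.Limits AlgebraicGeometry WithZero
open Groth.Agent.AModX Groth.Agent.CurveCohLib.Polar Groth.Agent.LocSymLib Groth.Agent.ZetaLib
open HomogeneousLocalization (Away)

namespace Groth.Agent.SymNorm.Curve

variable {k : Type u} [Field k] [IsAlgClosed k] {X : Scheme.{u}} [IsIntegral X]
  (c : X ⟶ Spec (CommRingCat.of k)) [IsProper c] [Smooth c] (hdim : topologicalKrullDim X = 1)

include hdim in
theorem isDVR (x : LocSym.Pt c) : IsDiscreteValuationRing (X.presheaf.stalk x.pt) := by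
  letI : X.Over (Spec (CommRingCat.of k)) := ⟨c⟩
  haveI : IsProper (X ↘ Spec (CommRingCat.of k)) := ‹IsProper c›
  haveI : Smooth (X ↘ Spec (CommRingCat.of k)) := ‹Smooth c›
  exact CurveFF.isDVR k X hdim (pointEquivClosedPoint c x).2

theorem vl_eq_val (x : LocSym.Pt c) (g : X.functionField) :
    letI := isDVR c hdim x
    vl c hdim x g =
      (IsDiscreteValuationRing.maximalIdeal (X.presheaf.stalk x.pt)).valuation X.functionField g := by
  letI := isDVR c hdim x
  rcases eq_or_ne g 0 with rfl | hg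
  · simp
  set v := (IsDiscreteValuationRing.maximalIdeal (X.presheaf.stalk x.pt)).valuation X.functionField
  have h : x.ord g = -log (v g) := by
    have h : IsNoetherianRing (X.presheaf.stalk x.pt) ∧ Ring.KrullDimLE 1 (X.presheaf.stalk x.pt) ∧
        Nontrivial (X.presheaf.stalk x.pt) ∧ IsFractionRing (X.presheaf.stalk x.pt) X.functionField :=
      ⟨inferInstance, inferInstance, inferInstance, inferInstance⟩
    unfold LocSym.Pt.ord
    rw [CycAlg.ordFrac, dif_pos h]
    show _ = -log (v g)
    rw [Ring.ordFrac_eq_valuation_inv]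
    generalize v g = t
    induction t using WithZero.recZeroCoe with
    | zero => simp
    | coe z => rfl
  rw [ord_eq c hdim x g, neg_inj] at h
  rw [← exp_log ((vl c hdim x).ne_zero_iff.2 hg), h, exp_log (v.ne_zero_iff.2 hg)]

theorem vl_le_one_iff (x : LocSym.Pt c) (g : X.functionField) :
    vl c hdim x g ≤ 1 ↔ InR x.pt g := by
  letI := isDVR c hdim x
  rw [vl_eq_val c hdim x g]
  constructor
  · exact fun h => IsDiscreteValuationRing.exists_lift_of_le_one h
  · rintro ⟨a, rfl⟩
    exact (IsDiscreteValuationRing.maximalIdeal (X.presheaf.stalk x.pt)).valuation_le_one a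

theorem vl_germ {W : X.Opens} (x : LocSym.Pt c) (hx : x.pt ∈ W) (r : Γ(X, W)) :
    vl c hdim x (gη hx r) ≤ 1 ∧ (vl c hdim x (gη hx r) < 1 ↔ x.pt ∉ X.basicOpen r) := by
  refine ⟨(vl_le_one_iff c hdim x _).2 (inR_gη hx r), ?_⟩
  letI := isDVR c hdim x
  haveI : Nonempty W := ⟨⟨x.pt, hx⟩⟩
  rw [show gη hx r = algebraMap (X.presheaf.stalk x.pt) X.functionField (X.presheaf.germ W x.pt hx r) from
      (X.algebraMap_germ_eq_germToFunctionField hx r).symm, vl_eq_val c hdim]
  rw [(IsDiscreteValuationRing.maximalIdeal (X.presheaf.stalk x.pt)).valuation_lt_one_iff_mem,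
    X.mem_basicOpen r x.pt hx]
  exact Iff.rfl

theorem pt_closed (x : LocSym.Pt c) : IsClosed ({x.pt} : Set X) := (pointEquivClosedPoint c x).2

theorem eq_of_pt_eq {x y : LocSym.Pt c} (h : x.pt = y.pt) : x = y :=
  (pointEquivClosedPoint c).injective (Subtype.ext h)

include hdim in
theorem closed_cases (z : X) : z = genericPoint X ∨ ∃ x : LocSym.Pt c, x.pt = z := by
  letI : X.Over (Spec (CommRingCat.of k)) := ⟨c⟩
  haveI : IsProper (X ↘ Spec (CommRingCat.of k)) := ‹IsProper c›
  haveI : Smooth (X ↘ Spec (CommRingCat.of k)) := ‹Smooth c›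
  refine (CurveFF.eq_or_isClosed k X hdim z).imp id fun h => ?_
  exact ⟨(pointEquivClosedPoint c).symm ⟨z, h⟩,
    congrArg Subtype.val ((pointEquivClosedPoint c).apply_symm_apply ⟨z, h⟩)⟩

variable {V : X.Opens} (hV : IsAffineOpen V) [Algebra k Γ(X, V)]
  (hc : hV.fromSpec ≫ c = Spec.map (CommRingCat.ofHom (algebraMap k Γ(X, V))))

/-- A rational point of an affine open as a morphism to its spectrum. -/
def ptLift (x : LocSym.Pt c) (hx : x.pt ∈ V) : Spec (CommRingCat.of k) ⟶ Spec Γ(X, V) :=
  IsOpenImmersion.lift hV.fromSpec x.1 (by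
    rintro _ ⟨p, rfl⟩
    rw [hV.range_fromSpec, Subsingleton.elim p (IsLocalRing.closedPoint k)]
    exact hx)

/-- A rational point of an affine open as a character of its sections. -/
def charOf (x : LocSym.Pt c) (hx : x.pt ∈ V) : Γ(X, V) →ₐ[k] k :=
  { (Spec.preimage (ptLift c hV x hx)).hom with
    commutes' := fun r => by
      have h : CommRingCat.ofHom (algebraMap k Γ(X, V)) ≫ Spec.preimage (ptLift c hV x hx) =
          𝟙 (CommRingCat.of k) := Spec.map_injective (by
        rw [Spec.map_comp, Spec.map_preimage, ← hc, ptLift, IsOpenImmersion.lift_fac_assoc, Spec.map_id]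
        exact x.2)
      exact congr($(h).hom r) }

theorem charOf_fac (x : LocSym.Pt c) (hx : x.pt ∈ V) :
    Spec.map (CommRingCat.ofHom (charOf c hV hc x hx).toRingHom) ≫ hV.fromSpec = x.1 := by
  show Spec.map (Spec.preimage (ptLift c hV x hx)) ≫ hV.fromSpec = _
  rw [Spec.map_preimage, ptLift, IsOpenImmersion.lift_fac]

theorem charOf_eq_zero_iff (x : LocSym.Pt c) (hx : x.pt ∈ V) (b : Γ(X, V)) :
    charOf c hV hc x hx b = 0 ↔ x.pt ∉ X.basicOpen b := by
  have e : x.pt = hV.fromSpec (Spec.map (CommRingCat.ofHom (charOf c hV hc x hx).toRingHom)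
      (IsLocalRing.closedPoint k)) := by
    exact (congr($(charOf_fac c hV hc x hx) (IsLocalRing.closedPoint k))).symm
  have h2 : x.pt ∈ X.basicOpen b ↔
      Spec.map (CommRingCat.ofHom (charOf c hV hc x hx).toRingHom) (IsLocalRing.closedPoint k) ∈
        PrimeSpectrum.basicOpen b := by
    rw [e, ← hV.fromSpec_preimage_basicOpen b]
    exact Iff.rfl
  rw [h2, PrimeSpectrum.mem_basicOpen, not_not]
  show _ ↔ charOf c hV hc x hx b ∈ IsLocalRing.maximalIdeal k
  rw [IsLocalRing.mem_maximalIdeal, mem_nonunits_iff, isUnit_iff_ne_zero, not_not]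

variable (hη : genericPoint X ∈ V)

/-- The value at the generic point. -/
def gen : Γ(X, V) →+* X.functionField := (X.presheaf.germ V (genericPoint X) hη).hom

variable (hconst : ∀ r, gen hη (algebraMap k Γ(X, V) r) = LocSym.constFun c r)

/-- The point data of an affine open of a curve. -/
def pointData : PointData k Γ(X, V) X.functionField where
  γ := gen hη
  inj := germ_injective_of_isIntegral X _ hη
  P := {x : LocSym.Pt c // x.pt ∈ V}
  v p := vl c hdim p.1
  χ p := charOf c hV hc p.1 p.2
  le_one p b := (vl_germ c hdim p.1 p.2 b).1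
  lt_one_iff p b := ((vl_germ c hdim p.1 p.2 b).2).trans (charOf_eq_zero_iff c hV hc p.1 p.2 b).symm
  value p q h := by
    rcases eq_or_ne q 0 with rfl | hq
    · exact ⟨0, by simp⟩
    have h' : 0 ≤ p.1.ord q := by
      have := (vl_le_exp_iff c hdim p.1 hq 0).1 (by simpa using h)
      simpa using this
    obtain ⟨r, hr⟩ := exists_value c hdim p.1 h'
    exact ⟨r, by rw [hconst]; exact (hasValueAt_iff c hdim p.1 q r).1 hr⟩
  mem q h := by
    obtain ⟨r, hr⟩ := exists_of_forall_inR (W := V) (c := q) fun z hz => by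
      rcases closed_cases c hdim z with rfl | ⟨x, rfl⟩
      · exact ⟨q, CurveFF.algebraMap_generic X q⟩
      · exact (vl_le_one_iff c hdim x q).1 (h ⟨x, hz⟩)
    exact ⟨r, hr hη⟩
  unif p := by
    letI := isDVR c hdim p.1
    obtain ⟨π, hπ⟩ := (IsDiscreteValuationRing.maximalIdeal
      (X.presheaf.stalk p.1.pt)).valuation_exists_uniformizer X.functionField
    rw [← vl_eq_val c hdim] at hπ
    have hin : InR p.1.pt π := (vl_le_one_iff c hdim p.1 π).1 (by rw [hπ, ← exp_zero, exp_le_exp]; omega)
    obtain ⟨W, hzW, r, hr⟩ := exists_gη_of_inR hin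
    obtain ⟨s, hsW, hs⟩ := hV.exists_basicOpen_le (V := W) ⟨p.1.pt, hzW⟩ p.2
    haveI := hV.isLocalization_basicOpen s
    obtain ⟨b, ⟨_, N, rfl⟩, hb⟩ :=
      IsLocalization.exists_mk'_eq (Submonoid.powers s) (resR hsW r : Γ(X, X.basicOpen s))
    refine ⟨b, ?_⟩
    have e : resR (X.basicOpen_le s) b = resR hsW r * resR (X.basicOpen_le s) (s ^ N) := by
      have h := IsLocalization.mk'_spec Γ(X, X.basicOpen s) b (⟨s ^ N, N, rfl⟩ : Submonoid.powers s)
      rw [hb] at h
      exact h.symm
    have e2 : gη p.2 b = π * gη p.2 (s ^ N) := by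
      rw [← gη_res (X.basicOpen_le s) hs p.2 b, e, map_mul, gη_res hsW hs hzW, hr,
        gη_res (X.basicOpen_le s) hs p.2]
    show vl c hdim p.1 (gη p.2 b) = _
    have hu : vl c hdim p.1 (gη p.2 s) = 1 :=
      le_antisymm (vl_germ c hdim p.1 p.2 s).1 (not_lt.1 fun hl => (vl_germ c hdim p.1 p.2 s).2.1 hl hs)
    rw [e2, map_mul, hπ, map_pow, map_pow, hu, one_pow, mul_one]
  ext p q h := by
    refine Subtype.ext (Subtype.ext ?_)
    rw [← charOf_fac c hV hc p.1 p.2, ← charOf_fac c hV hc q.1 q.2, h]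

end Groth.Agent.SymNorm.Curve
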